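import Cfsg.Agent.Lib.CyclicTIModular.Trace
import Mathlib.RepresentationTheory.Irreducible
import Mathlib.GroupTheory.Sylow
import Mathlib.GroupTheory.SpecificGroups.Cyclic
import Mathlib.FieldTheory.Finite.Basic

/-!
# Faithful irreducible representations in characteristic `p` of groups with cyclic TI Sylow subgroup

`finrank_ge`: the dimension is at least `p ^ n - (p - 1)`. The proof forms the relative trace from
`N(P)` of `Y ^ (p - 1)`, where `Y` is `x - 1` averaged over the `p'`-automorphisms of `⟨x⟩`.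
-/

set_option autoImplicit false

open Polynomial

namespace Cfsg.Agent.CyclicTIModular

variable {F V : Type*} [Field F] [AddCommGroup V] [Module F V] [FiniteDimensional F V]

/-- A power of an invertible element with an exponent read modulo its order. -/
theorem pow_val_mul {M : Type*} [Monoid M] {x : M} {q : ℕ} [NeZero q] (hx : x ^ q = 1) (a b : ZMod q) :
    x ^ (a * b).val = (x ^ a.val) ^ b.val := by
  rw [← pow_mul, ZMod.val_mul]
  exact (pow_eq_pow_mod _ hx).symm

theorem not_dvd_card_kerPow {p : ℕ} [hp : Fact p.Prime] {A : Type*} [CommGroup A] [Finite A] :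
    ¬ p ∣ Nat.card (powMonoidHom (α := A) (p - 1)).ker := by
  intro h
  obtain ⟨a, ha⟩ := exists_prime_orderOf_dvd_card' p h
  have h1 : a ^ (p - 1) = 1 := Subtype.ext ((SubgroupClass.coe_pow _ _).trans (MonoidHom.mem_ker.1 a.2))
  have h2 := orderOf_dvd_of_pow_eq_one h1
  rw [ha] at h2
  have := Nat.le_of_dvd (by have := hp.out.two_le; omega) h2
  have := hp.out.two_le
  omega

omit [FiniteDimensional F V] in
/-- An operator with the range of `(x - 1) ^ (p - 1)`, centralised by all `p'`-automorphisms of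
`zpowers x`. -/
theorem exists_averaged {p : ℕ} [hp : Fact p.Prime] [CharP F p] {n : ℕ} (hn : n ≠ 0)
    [NeZero (p ^ n)] (x : Module.End F V) (hx : x ^ p ^ n = 1) :
    ∃ w : Module.End F V,
      LinearMap.range w = LinearMap.range ((x - 1) ^ (p - 1)) ∧
      ∀ (m : (ZMod (p ^ n))ˣ) (a b : Module.End F V), m ^ (p - 1) = 1 → a * b = 1 → b * a = 1 →
        a * x * b = x ^ (m : ZMod (p ^ n)).val → a * w * b = w := by
  classical
  set E := (powMonoidHom (α := (ZMod (p ^ n))ˣ) (p - 1)).ker with hE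
  have := Fintype.ofFinite E
  let c : ZMod (p ^ n) →+* F := ZMod.castHom (dvd_pow_self p hn) F
  let α : E → F := fun m => c ((m : (ZMod (p ^ n))ˣ) : ZMod (p ^ n))
  have hα0 : ∀ m, α m ≠ 0 := fun m => ((Units.map (c : ZMod (p ^ n) →* F)) m).ne_zero
  have hαval : ∀ m, α m = (((m : (ZMod (p ^ n))ˣ) : ZMod (p ^ n)).val : F) := fun m => by
    conv_lhs => rw [show α m = c (((m : (ZMod (p ^ n))ˣ) : ZMod (p ^ n))) from rfl,
      ← ZMod.natCast_zmod_val ((m : (ZMod (p ^ n))ˣ) : ZMod (p ^ n)), map_natCast]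
  let PY : F[X] := ∑ m : E, C (α m)⁻¹ * (X ^ ((m : (ZMod (p ^ n))ˣ) : ZMod (p ^ n)).val - 1)
  let PZ : F[X] := ∑ m : E, C (α m)⁻¹ * ∑ i ∈ Finset.range ((m : (ZMod (p ^ n))ˣ) : ZMod (p ^ n)).val, X ^ i
  have hYZ : PY = (X - 1) * PZ := by
    simp only [PY, PZ, Finset.mul_sum]
    refine Finset.sum_congr rfl fun m _ => ?_
    rw [← Finset.mul_sum, ← Finset.mul_sum, ← mul_assoc, mul_comm _ (C (α m)⁻¹), mul_assoc, mul_geom_sum]
  have hZ1 : PZ.eval 1 = (Fintype.card E : F) := by
    simp only [PZ, eval_finsetSum, eval_mul, eval_C, eval_pow, eval_X, one_pow, Finset.sum_const,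
      Finset.card_range, nsmul_eq_mul, mul_one]
    rw [Finset.sum_congr rfl fun m _ => by rw [← hαval m, inv_mul_cancel₀ (hα0 m)]]
    simp
  have hc0 : (Fintype.card E : F) ≠ 0 := by
    rw [Ne, CharP.cast_eq_zero_iff F p, ← Nat.card_eq_fintype_card]
    exact not_dvd_card_kerPow
  set Y := aeval x PY with hY
  set Z := aeval x PZ with hZ
  have hnil : IsNilpotent (x - 1) := ⟨p ^ n, by rw [sub_one_pow (F := F), hx, sub_self]⟩
  have hZu : IsUnit Z := by
    obtain ⟨R, hR⟩ := (dvd_iff_isRoot (p := PZ - C (Fintype.card E : F)) (a := (1 : F))).2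
      (by simp [IsRoot, hZ1])
    have e : Z = algebraMap F (Module.End F V) (Fintype.card E : F) + (x - 1) * aeval x R := by
      have h := congrArg (aeval x) hR
      simp only [map_sub, map_mul, aeval_C, aeval_X, map_one] at h
      rw [← h, hZ]
      abel
    have hcomm : Commute (x - 1) (aeval x R) := by
      have h := (Commute.all (X - 1 : F[X]) R).map (aeval x : F[X] →ₐ[F] Module.End F V)
      simpa using h
    rw [e]
    exact IsNilpotent.isUnit_add_left_of_commute (hcomm.isNilpotent_mul_right hnil)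
      ((isUnit_iff_ne_zero.2 hc0).map _) (Algebra.commute_algebraMap_right _ _)
  refine ⟨Y ^ (p - 1), ?_, fun m a b hm hab hba haxb => ?_⟩
  · have hY' : Y = (x - 1) * Z := by rw [hY, hYZ, map_mul]; simp [hZ]
    have hcomm : Commute (x - 1) Z := by
      have h := (Commute.all (X - 1 : F[X]) PZ).map (aeval x : F[X] →ₐ[F] Module.End F V)
      simpa [hZ] using h
    rw [hY', hcomm.mul_pow]
    refine LinearMap.range_comp_of_range_eq_top _ (LinearMap.range_eq_top.2 ?_)
    obtain ⟨u, hu⟩ := hZu.pow (p - 1)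
    rw [← hu]
    exact ((Module.End.isUnit_iff _).1 u.isUnit).2
  · let Φ : Module.End F V →ₐ[F] Module.End F V :=
      { toFun := fun z => a * z * b
        map_one' := by rw [mul_one, hab]
        map_mul' := fun z z' => by
          rw [show a * z * b * (a * z' * b) = a * z * (b * a) * z' * b by simp only [mul_assoc], hba,
            mul_one]
          simp only [mul_assoc]
        map_zero' := by simp
        map_add' := fun z z' => by simp [mul_add, add_mul]
        commutes' := fun r => by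
          rw [← Algebra.commutes, mul_assoc, hab, mul_one] }
    have hΦx : Φ x = x ^ (m : ZMod (p ^ n)).val := haxb
    show Φ (Y ^ (p - 1)) = Y ^ (p - 1)
    have hΦY : Φ Y = c (m : ZMod (p ^ n)) • Y := by
      rw [hY, ← aeval_algHom_apply, hΦx]
      simp only [PY, map_sum, map_mul, aeval_C, map_sub, map_pow, aeval_X, map_one, Finset.smul_sum]
      let mE : E := ⟨m, by simpa [E] using hm⟩
      refine Fintype.sum_equiv (Equiv.mulLeft mE) _ _ fun k => ?_
      simp only [Equiv.coe_mulLeft, Subgroup.coe_mul, Units.val_mul, mE]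
      rw [← pow_val_mul hx, Algebra.smul_def, ← mul_assoc, ← map_mul]
      congr 2
      simp only [α, Subgroup.coe_mul, Units.val_mul, map_mul]
      have hcm : c (m : ZMod (p ^ n)) ≠ 0 := ((Units.map (c : ZMod (p ^ n) →* F)) m).ne_zero
      rw [mul_inv, ← mul_assoc, mul_inv_cancel₀ hcm, one_mul]
    rw [map_pow, hΦY, _root_.smul_pow, ← map_pow, ← Units.val_pow_eq_pow_val, hm, Units.val_one, map_one, one_smul]

omit [FiniteDimensional F V] in
theorem range_pow_eq_zero {X : Module.End F V} (hX : IsNilpotent X) {a k : ℕ} (hak : a < k)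
    (h : LinearMap.range (X ^ a) ≤ LinearMap.range (X ^ k)) : X ^ a = 0 := by
  obtain ⟨N, hN⟩ := hX
  have key : ∀ j : ℕ, LinearMap.range (X ^ a) ≤ LinearMap.range (X ^ (a + j)) := by
    intro j
    induction j with
    | zero => exact le_rfl
    | succ j ih =>
      intro v hv
      obtain ⟨r, rfl⟩ := Nat.exists_eq_add_of_lt hak
      obtain ⟨u, hu⟩ := h hv
      rw [show a + r + 1 = (r + 1) + a by ring, pow_add, Module.End.mul_apply] at hu
      obtain ⟨u', hu'⟩ := ih (LinearMap.mem_range_self (X ^ a) u)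
      rw [← hu']  at hu
      refine ⟨(X ^ r) u', ?_⟩
      rw [← hu, ← Module.End.mul_apply, ← Module.End.mul_apply, ← pow_add, ← pow_add]
      congr 2
      ring
  refine LinearMap.ext fun v => ?_
  obtain ⟨u, hu⟩ := key N (LinearMap.mem_range_self (X ^ a) v)
  rw [← hu, pow_add, hN, mul_zero]
  rfl

variable {G : Type*} [Group G] [Finite G]

/-- An element of the normalizer of a cyclic Sylow subgroup acts on it with order dividing `p - 1`. -/
theorem exists_exponent {p : ℕ} [hp : Fact p.Prime] {n : ℕ} [NeZero (p ^ n)] (P : Sylow p G) {s : G}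
    (hs : orderOf s = p ^ n) (hP : (P : Subgroup G) = Subgroup.zpowers s) {g : G}
    (hg : g ∈ Subgroup.normalizer ((P : Subgroup G) : Set G)) :
    ∃ m : (ZMod (p ^ n))ˣ, m ^ (p - 1) = 1 ∧ g * s * g⁻¹ = s ^ (m : ZMod (p ^ n)).val := by
  have hn : ∀ h ∈ Subgroup.normalizer ((P : Subgroup G) : Set G),
      ∃ k : ℕ, h * s * h⁻¹ = s ^ k := by
    intro h hh
    have h1 : h * s * h⁻¹ ∈ (P : Subgroup G) :=
      (Subgroup.mem_normalizer_iff.1 hh s).1 (hP ▸ Subgroup.mem_zpowers s)
    rw [hP] at h1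
    obtain ⟨k, hk⟩ := (isOfFinOrder_of_finite s).mem_powers_iff_mem_zpowers.2 h1
    exact ⟨k, hk.symm⟩
  have hsq : s ^ p ^ n = 1 := hs ▸ pow_orderOf_eq_one s
  obtain ⟨k, hk⟩ := hn g hg
  have hkq : Nat.Coprime k (p ^ n) := by
    have h1 : orderOf (g * s * g⁻¹) = orderOf s :=
      orderOf_injective (MulAut.conj g).toMonoidHom (MulAut.conj g).injective s
    rw [hk, orderOf_pow, hs] at h1
    have hq : 0 < p ^ n := pow_pos hp.out.pos n
    rcases Nat.div_eq_self.1 h1 with h | h
    · omega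
    · exact Nat.Coprime.symm h
  set m : (ZMod (p ^ n))ˣ := ZMod.unitOfCoprime k hkq with hm
  have hconj : g * s * g⁻¹ = s ^ (m : ZMod (p ^ n)).val := by
    rw [hk, hm, ZMod.coe_unitOfCoprime, ZMod.val_natCast]
    exact pow_eq_pow_mod k hsq
  have hiter : ∀ j : ℕ, g ^ j * s * (g ^ j)⁻¹ = s ^ ((m ^ j : (ZMod (p ^ n))ˣ) : ZMod (p ^ n)).val := by
    intro j
    induction j with
    | zero =>
      rw [pow_zero, pow_zero, one_mul, inv_one, mul_one, Units.val_one, ZMod.val_one_eq_one_mod,
        ← pow_eq_pow_mod 1 hsq, pow_one]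
    | succ j ih =>
      rw [pow_succ' m, Units.val_mul, pow_val_mul hsq, ← hconj, conj_pow, ← ih, pow_succ' g]
      group
  refine ⟨m, ?_, hconj⟩
  -- a power of `g` prime to `p` centralises
  obtain ⟨a, r, hr, hgr⟩ := Nat.exists_eq_pow_mul_and_not_dvd (orderOf_pos g).ne' p hp.out.ne_one
  have hgP : g ^ r ∈ (P : Subgroup G) := by
    have hpg : IsPGroup p (Subgroup.zpowers (g ^ r)) := by
      refine IsPGroup.of_card (n := a) ?_
      rw [Nat.card_zpowers, orderOf_pow' g (by rintro rfl; exact hr (dvd_zero p)), hgr,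
        Nat.gcd_eq_right (dvd_mul_left r _), Nat.mul_div_cancel _ (Nat.pos_of_ne_zero (by rintro rfl; exact hr (dvd_zero p)))]
    exact ((hpg.inf_normalizer_sylow P).le ⟨Subgroup.mem_zpowers _, Subgroup.pow_mem _ hg r⟩).2
  have hmr : m ^ r = 1 := by
    refine Units.ext (ZMod.val_injective _ ?_)
    rw [Units.val_one]
    refine pow_injOn_Iio_orderOf (x := s) (by simpa [hs] using ZMod.val_lt _)
      (by simpa [hs] using ZMod.val_lt _) ?_
    simp only
    rw [← hiter r, ZMod.val_one_eq_one_mod, ← pow_eq_pow_mod 1 hsq, pow_one]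
    rw [hP] at hgP
    obtain ⟨i, hi⟩ := hgP
    rw [← hi]
    group
  have hφ : m ^ Nat.totient (p ^ n) = 1 := ZMod.pow_totient m
  rw [← orderOf_dvd_iff_pow_eq_one] at hmr hφ ⊢
  rcases Nat.eq_zero_or_pos n with rfl | hn0
  · have h1 : Nat.totient (p ^ 0) = 1 := by simp
    rw [h1, Nat.dvd_one] at hφ
    rw [hφ]; exact one_dvd _
  rw [Nat.totient_prime_pow hp.out hn0] at hφ
  refine Nat.Coprime.dvd_of_dvd_mul_left ?_ hφ
  exact ((hp.out.coprime_iff_not_dvd.2 hr).coprime_dvd_right hmr).symm.pow_right _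

/-- The dimension of a faithful irreducible representation. -/
theorem finrank_ge (p : ℕ) [hp : Fact p.Prime] (P : Sylow p G) [hcyc : IsCyclic P] (n : ℕ) (hn : 2 ≤ n)
    (hPn : Nat.card P = p ^ n)
    (hTI : ∀ Q : Sylow p G, Q ≠ P → (P : Subgroup G) ⊓ (Q : Subgroup G) = ⊥) [CharP F p]
    (ρ : Representation F G V) (hfaith : Function.Injective ρ) (hirr : ρ.IsIrreducible) :
    p ^ n - (p - 1) ≤ Module.finrank F V := by
  classical
  set d := Module.finrank F V
  by_contra hlt
  have hp2 := hp.out.two_le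
  have : NeZero (p ^ n) := ⟨(pow_pos hp.out.pos n).ne'⟩
  set k := p ^ n - d with hk
  have hpk : p ≤ k := by omega
  -- a generator
  obtain ⟨s₀, hs₀⟩ := IsCyclic.exists_generator (α := P)
  set s : G := (s₀ : G) with hsdef
  have hP : (P : Subgroup G) = Subgroup.zpowers s := by
    refine le_antisymm (fun a ha => ?_) (Subgroup.zpowers_le.2 s₀.2)
    obtain ⟨i, hi⟩ := hs₀ ⟨a, ha⟩
    exact ⟨i, by simpa [hsdef] using congrArg Subtype.val hi⟩
  have hs : orderOf s = p ^ n := by rw [← hPn, ← Nat.card_zpowers, ← hP]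
  set x : Module.End F V := ρ s with hxdef
  have hxq : x ^ p ^ n = 1 := by rw [hxdef, ← map_pow, ← hs, pow_orderOf_eq_one, map_one]
  have hnil : IsNilpotent (x - 1) := ⟨p ^ n, by rw [sub_one_pow (F := F), hxq, sub_self]⟩
  have hd : (x - 1) ^ d = 0 := pow_finrank_eq_zero hnil
  -- faithful
  have hXp : (x - 1) ^ (p - 1) ≠ 0 := by
    intro h
    have hle : p - 1 ≤ p ^ (n - 1) :=
      (Nat.sub_le p 1).trans (Nat.le_self_pow (by omega) p)
    have h2 := pow_eq_zero_of_le hle h
    rw [sub_one_pow (F := F), sub_eq_zero, hxdef, ← map_pow, ← map_one ρ] at h2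
    have h3 := orderOf_dvd_of_pow_eq_one (hfaith h2)
    rw [hs] at h3
    have := (Nat.pow_dvd_pow_iff_le_right (by omega)).1 h3
    omega
  obtain ⟨w, hw, hwinv⟩ := exists_averaged (p := p) (n := n) (by omega) x hxq
  set N := Subgroup.normalizer ((P : Subgroup G) : Set G) with hN
  have hPN : (P : Subgroup G) ≤ N := Subgroup.le_normalizer
  have hwN : ∀ g ∈ N, ρ g * w * ρ g⁻¹ = w := by
    intro g hg
    obtain ⟨m, hm, hgs⟩ := exists_exponent (n := n) P hs hP hg
    refine hwinv m _ _ hm (by rw [← map_mul, mul_inv_cancel, map_one]) (by rw [← map_mul, inv_mul_cancel, map_one]) ?_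
    rw [hxdef, ← map_mul, ← map_mul, ← map_pow, hgs]
  -- the relative trace
  let f : G ⧸ N → Module.End F V := Quotient.lift (fun g => ρ g * w * ρ g⁻¹) fun a b hab => by
    have hab' : a⁻¹ * b ∈ N := QuotientGroup.leftRel_apply.1 hab
    have e := hwN _ hab'
    calc ρ a * w * ρ a⁻¹ = ρ a * (ρ (a⁻¹ * b) * w * ρ (a⁻¹ * b)⁻¹) * ρ a⁻¹ := by rw [e]
      _ = (ρ a * ρ (a⁻¹ * b)) * w * (ρ (a⁻¹ * b)⁻¹ * ρ a⁻¹) := by simp only [mul_assoc]
      _ = ρ b * w * ρ b⁻¹ := by
        rw [← map_mul, ← map_mul, mul_inv_cancel_left, ← mul_inv_rev, mul_inv_cancel_left]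
  have hf : ∀ (a : G) (c : G ⧸ N), f (a • c) = ρ a * f c * ρ a⁻¹ := by
    intro a c
    induction c using QuotientGroup.induction_on with
    | H g =>
      show ρ (a * g) * w * ρ (a * g)⁻¹ = ρ a * (ρ g * w * ρ g⁻¹) * ρ a⁻¹
      simp only [mul_inv_rev, map_mul, mul_assoc]
  have := Fintype.ofFinite (G ⧸ N)
  set Φ := ∑ c, f c with hΦ
  have hΦcomm : ∀ g : G, ρ g * Φ = Φ * ρ g := by
    intro g
    have h : ρ g * Φ * ρ g⁻¹ = Φ := by
      rw [hΦ, Finset.mul_sum, Finset.sum_mul]
      exact Fintype.sum_equiv (MulAction.toPerm g) _ _ fun c => (hf g c).symm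
    conv_rhs => rw [← h]
    rw [mul_assoc _ (ρ g⁻¹), ← map_mul, inv_mul_cancel, map_one, mul_one]
  -- the other cosets
  let c₀ : G ⧸ N := QuotientGroup.mk 1
  have hfix : ∀ a : (P : Subgroup G), (a : G) • c₀ = c₀ := fun a => by
    show QuotientGroup.mk ((a : G) * 1) = QuotientGroup.mk 1
    rw [mul_one, QuotientGroup.eq, mul_one]
    exact N.inv_mem (hPN a.2)
  let _ : MulAction (P : Subgroup G) {c : G ⧸ N // c ≠ c₀} :=
    { smul := fun a c => ⟨(a : G) • c.1, fun h => c.2 (by
        exact smul_left_cancel _ (h.trans (hfix a).symm))⟩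
      one_smul := fun c => Subtype.ext (one_smul G c.1)
      mul_smul := fun a b c => Subtype.ext (mul_smul (a : G) (b : G) c.1) }
  have hfree : ∀ (a : (P : Subgroup G)) (c : {c : G ⧸ N // c ≠ c₀}), a • c = c → a = 1 := by
    intro a c hac
    obtain ⟨c, hc⟩ := c
    have hac' : (a : G) • c = c := congrArg Subtype.val hac
    induction c using QuotientGroup.induction_on with
    | H g =>
      have hgN : g ∉ N := fun hg => hc (QuotientGroup.eq.2 (by simpa using N.inv_mem hg))
      have h1 : g⁻¹ * a * g ∈ N := by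
        have : (QuotientGroup.mk g : G ⧸ N) = QuotientGroup.mk ((a : G) * g) := hac'.symm
        rw [QuotientGroup.eq, ← mul_assoc] at this
        exact this
      have h2 : g⁻¹ * a * g ∈ (P : Subgroup G) := by
        have hpg : IsPGroup p (Subgroup.zpowers (g⁻¹ * a * g)) := by
          obtain ⟨i, hi⟩ := IsPGroup.iff_orderOf.1 P.2 a
          refine IsPGroup.of_card (n := i) ?_
          rw [Nat.card_zpowers, ← hi, ← Subgroup.orderOf_coe]
          simpa using orderOf_injective (MulAut.conj g⁻¹).toMonoidHom (MulAut.conj g⁻¹).injective (a : G)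
        exact ((hpg.inf_normalizer_sylow P).le ⟨Subgroup.mem_zpowers _, h1⟩).2
      have hQ : g • P ≠ P := fun h => hgN (Sylow.smul_eq_iff_mem_normalizer.1 h)
      have h4 : (a : G) ∈ (P : Subgroup G) ⊓ ((g • P : Sylow p G) : Subgroup G) :=
        ⟨a.2, ⟨g⁻¹ * a * g, h2, by simp [mul_assoc]⟩⟩
      rw [hTI _ hQ, Subgroup.mem_bot] at h4
      exact Subtype.ext h4
  have hsplit : Φ = w + ∑ c : {c : G ⧸ N // c ≠ c₀}, f c.1 := by
    rw [hΦ, ← Finset.add_sum_erase _ _ (Finset.mem_univ c₀)]
    congr 1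
    · show ρ 1 * w * ρ 1⁻¹ = w
      rw [inv_one, map_one, one_mul, mul_one]
    · exact Finset.sum_subtype _ (fun c => by simp) f
  have htail : ∀ v, (∑ c : {c : G ⧸ N // c ≠ c₀}, f c.1) v ∈ LinearMap.range ((x - 1) ^ k) := fun v =>
    range_sum_free_le (p := p) (n := n) (P := (P : Subgroup G)) (s := ⟨s, s₀.2⟩)
      (by rw [Subgroup.orderOf_mk, hs]) (fun a => by simpa [hsdef] using hs₀ a)
      (ρ.comp (P : Subgroup G).subtype) hd hfree (fun c => f c.1) (fun a c => hf (a : G) c.1) v
  -- Schur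
  let K : Subrepresentation ρ := ⟨LinearMap.ker Φ, fun g v hv => by
    rw [LinearMap.mem_ker] at hv ⊢
    rw [← Module.End.mul_apply, ← hΦcomm g, Module.End.mul_apply, hv, map_zero]⟩
  have : IsSimpleOrder (Subrepresentation ρ) := hirr
  rcases eq_bot_or_eq_top K with hK | hK
  · -- injective
    have hinj : Function.Injective Φ :=
      LinearMap.ker_eq_bot.1 (congrArg Subrepresentation.toSubmodule hK)
    have hsurj := LinearMap.surjective_of_injective hinj
    have hle : LinearMap.range Φ ≤ LinearMap.range (x - 1) := by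
      rintro _ ⟨v, rfl⟩
      rw [hsplit, LinearMap.add_apply]
      refine Submodule.add_mem _ ?_ ?_
      · have h1 : LinearMap.range ((x - 1) ^ (p - 1)) ≤ LinearMap.range (x - 1) := by
          rw [show p - 1 = (p - 2) + 1 by omega, pow_succ']
          exact LinearMap.range_comp_le_range _ _
        exact h1 (hw ▸ LinearMap.mem_range_self w v)
      · have h1 : LinearMap.range ((x - 1) ^ k) ≤ LinearMap.range (x - 1) := by
          rw [show k = (k - 1) + 1 by omega, pow_succ']
          exact LinearMap.range_comp_le_range _ _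
        exact h1 (htail v)
    rw [LinearMap.range_eq_top.2 hsurj, top_le_iff] at hle
    refine hXp ?_
    have h0 : ∀ j, LinearMap.range ((x - 1) ^ j) = ⊤ := by
      intro j
      induction j with
      | zero => simp [Module.End.one_eq_id]
      | succ j ih =>
        rw [pow_succ]
        exact (LinearMap.range_comp_of_range_eq_top _ hle).trans ih
    have hV : ∀ v : V, v = 0 := fun v => by
      have hv : v ∈ LinearMap.range ((x - 1) ^ d) := by rw [h0 d]; trivial
      rw [hd, LinearMap.range_zero] at hv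
      exact hv
    exact LinearMap.ext fun v => (hV _).trans (hV _).symm
  · have hzero : Φ = 0 := LinearMap.ker_eq_top.1 (congrArg Subrepresentation.toSubmodule hK)
    refine hXp (range_pow_eq_zero hnil (a := p - 1) (k := k) (by omega) ?_)
    rw [← hw]
    rintro _ ⟨v, rfl⟩
    have h : w v = -((∑ c : {c : G ⧸ N // c ≠ c₀}, f c.1) v) := by
      rw [eq_neg_iff_add_eq_zero, ← LinearMap.add_apply, ← hsplit, hzero, LinearMap.zero_apply]
    rw [h]
    exact Submodule.neg_mem _ (htail v)

end Cfsg.Agent.CyclicTIModular
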