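import Cfsg.Agent.EqLemmas
import Mathlib.LinearAlgebra.Eigenspace.Zero
import Mathlib.Algebra.CharP.Lemmas
import Mathlib.Algebra.Polynomial.RingDivision
import Mathlib.GroupTheory.GroupAction.Quotient

/-!
# Traces from the trivial subgroup of a cyclic `p`-group in characteristic `p`

* `range_trace_le`: `∑ x ^ j u x ^ (-j)` maps into the image of `(x - 1) ^ (q - d)`.
* `range_sum_free_le`: the same for an equivariant sum over a free action.
-/

set_option autoImplicit false

open Polynomial

namespace Cfsg.Agent.CyclicTIModular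

variable {F V : Type*} [Field F] [AddCommGroup V] [Module F V] [FiniteDimensional F V]

theorem pow_finrank_eq_zero {X : Module.End F V} (h : IsNilpotent X) :
    X ^ Module.finrank F V = 0 := by
  have h2 := LinearMap.aeval_self_charpoly X
  rw [IsNilpotent.charpoly_eq_X_pow_finrank h, map_pow, aeval_X] at h2
  exact h2

theorem sub_one_pow {p : ℕ} [Fact p.Prime] [CharP F p] {A : Type*} [Ring A] [Algebra F A] (x : A) (n : ℕ) :
    (x - 1) ^ p ^ n = x ^ p ^ n - 1 := by
  rcases subsingleton_or_nontrivial A with h | h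
  · exact Subsingleton.elim _ _
  have := charP_of_injective_algebraMap' F (A := A) p
  rw [sub_pow_char_pow_of_commute (p := p) (n := n) (h := Commute.one_right x), one_pow]

theorem geom_sum_eq_sub_one_pow {p : ℕ} [Fact p.Prime] [CharP F p] (n : ℕ) :
    ∑ j ∈ Finset.range (p ^ n), (X : F[X]) ^ j = (X - 1) ^ (p ^ n - 1) := by
  refine mul_right_cancel₀ (b := (X : F[X]) - 1) ?_ ?_
  · simpa using X_sub_C_ne_zero (1 : F)
  · rw [geom_sum_mul, ← pow_succ, Nat.sub_add_cancel (Nat.one_le_pow _ _ (Fact.out : p.Prime).pos),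
      sub_one_pow (F := F)]

omit [FiniteDimensional F V] in
/-- The trace from the trivial subgroup lands deep in the Loewy series. -/
theorem range_trace_le {p : ℕ} [Fact p.Prime] [CharP F p] {n d : ℕ} (x y u : Module.End F V)
    (hxy : x * y = 1) (hyx : y * x = 1) (hd : (x - 1) ^ d = 0) (v : V) :
    (∑ j ∈ Finset.range (p ^ n), x ^ j * u * y ^ j) v ∈ LinearMap.range ((x - 1) ^ (p ^ n - d)) := by
  set L : Module.End F (Module.End F V) := LinearMap.mulLeft F (x - 1)
  set R : Module.End F (Module.End F V) := LinearMap.mulRight F (x - 1)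
  set T : Module.End F (Module.End F V) := LinearMap.mulLeft F x * LinearMap.mulRight F y with hT
  have hT1 : T - 1 = (L - R) * LinearMap.mulRight F y := by
    refine LinearMap.ext fun w => ?_
    simp only [hT, L, R, LinearMap.sub_apply, Module.End.mul_apply, LinearMap.mulLeft_apply,
      LinearMap.mulRight_apply, Module.End.one_apply, sub_mul, mul_sub, one_mul, mul_one]
    rw [mul_assoc w y x, hyx, mul_one]
    abel
  have hcy : Commute (L - R) (LinearMap.mulRight F y) := by
    refine Commute.sub_left (LinearMap.commute_mulLeft_right _ _) ?_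
    refine LinearMap.ext fun w => ?_
    simp only [R, Module.End.mul_apply, LinearMap.mulRight_apply]
    rw [mul_assoc, mul_assoc, mul_sub, sub_mul, one_mul, mul_one, hxy, hyx]
  have hsum : ∑ j ∈ Finset.range (p ^ n), x ^ j * u * y ^ j = ((T - 1) ^ (p ^ n - 1)) u := by
    have h := congrArg (aeval T) (geom_sum_eq_sub_one_pow (F := F) (p := p) n)
    simp only [map_sum, map_pow, map_sub, map_one, aeval_X] at h
    rw [← h, LinearMap.sum_apply]
    refine Finset.sum_congr rfl fun j _ => ?_
    rw [hT, (LinearMap.commute_mulLeft_right x y).mul_pow, LinearMap.pow_mulLeft, LinearMap.pow_mulRight,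
      Module.End.mul_apply, LinearMap.mulRight_apply, LinearMap.mulLeft_apply, mul_assoc]
  rw [hsum, hT1, hcy.mul_pow, Module.End.mul_apply]
  set w := (LinearMap.mulRight F y ^ (p ^ n - 1)) u
  have hneg : (-(x - 1)) ^ d = 0 := by rw [neg_pow, hd, mul_zero]
  have hLR : L - R = L + LinearMap.mulRight F (-(x - 1)) := by
    refine LinearMap.ext fun w => ?_
    simp [L, R, sub_eq_add_neg, mul_add]
  rw [hLR, (LinearMap.commute_mulLeft_right (R := F) (x - 1) (-(x - 1))).add_pow, LinearMap.sum_apply,
    LinearMap.sum_apply]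
  refine Submodule.sum_mem _ fun i hi => ?_
  rw [← nsmul_eq_mul', LinearMap.smul_apply, LinearMap.smul_apply]
  refine Submodule.smul_of_tower_mem _ _ ?_
  rw [Module.End.mul_apply, LinearMap.pow_mulLeft, LinearMap.pow_mulRight, LinearMap.mulLeft_apply,
    LinearMap.mulRight_apply]
  by_cases hid : d ≤ p ^ n - 1 - i
  · rw [pow_eq_zero_of_le hid hneg]
    simp
  · have hi' : p ^ n - d ≤ i := by
      have := Finset.mem_range.1 hi
      omega
    obtain ⟨r, rfl⟩ := Nat.exists_eq_add_of_le hi'
    rw [pow_add, mul_assoc, Module.End.mul_apply]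
    exact LinearMap.mem_range_self _ _

omit [FiniteDimensional F V] in
/-- An equivariant sum over a free action of a cyclic `p`-group. -/
theorem range_sum_free_le {p : ℕ} [Fact p.Prime] [CharP F p] {n d : ℕ} {P : Type*} [Group P] [Finite P]
    {s : P} (hs : orderOf s = p ^ n) (hgen : ∀ a : P, a ∈ Subgroup.zpowers s)
    (τ : P →* Module.End F V) (hd : (τ s - 1) ^ d = 0) {Ω : Type*} [MulAction P Ω] [Fintype Ω]
    (hfree : ∀ (a : P) (c : Ω), a • c = c → a = 1) (f : Ω → Module.End F V)
    (hf : ∀ (a : P) (c : Ω), f (a • c) = τ a * f c * τ a⁻¹) (v : V) :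
    (∑ c, f c) v ∈ LinearMap.range ((τ s - 1) ^ (p ^ n - d)) := by
  classical
  have := Fintype.ofFinite P
  have := Fintype.ofFinite (Quotient (MulAction.orbitRel P Ω))
  let φ : P × Quotient (MulAction.orbitRel P Ω) → Ω := fun z => z.1 • z.2.out
  have hout : ∀ (a : P) (c : Ω), Quotient.mk (MulAction.orbitRel P Ω) (a • c) = Quotient.mk _ c :=
    fun a c => Quotient.sound (MulAction.mem_orbit c a)
  have hφ : Function.Bijective φ := by
    refine ⟨fun z z' h => ?_, fun c => ?_⟩
    · have h2 : z.2 = z'.2 := by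
        have := ((hout z.1 z.2.out).symm.trans (congrArg (fun c => Quotient.mk (MulAction.orbitRel P Ω) c) h)).trans
          (hout z'.1 z'.2.out)
        rwa [Quotient.out_eq, Quotient.out_eq] at this
      refine Prod.ext ?_ h2
      simp only [φ, h2] at h
      have := hfree (z'.1⁻¹ * z.1) z'.2.out (by rw [mul_smul, h, inv_smul_smul])
      exact (inv_mul_eq_one.1 this).symm
    · obtain ⟨a, ha⟩ := Quotient.mk_out (s := MulAction.orbitRel P Ω) c
      exact ⟨(a⁻¹, Quotient.mk _ c), by simp only [φ]; rw [← ha, inv_smul_smul]⟩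
  rw [← (Equiv.ofBijective φ hφ).sum_comp f, Fintype.sum_prod_type_right, LinearMap.sum_apply]
  refine Submodule.sum_mem _ fun ω _ => ?_
  have hpow : ∑ a : P, f (a • ω.out) =
      ∑ j ∈ Finset.range (p ^ n), τ s ^ j * f ω.out * τ s⁻¹ ^ j := by
    rw [← hs]
    refine (Finset.sum_bij (fun j _ => s ^ j) (fun j _ => Finset.mem_univ _)
      (fun i hi j hj h => pow_injOn_Iio_orderOf (by simpa using hi) (by simpa using hj) h)
      (fun a _ => ?_) (fun j _ => ?_)).symm
    · obtain ⟨j, hj, rfl⟩ := mem_zpowers_iff_mem_range_orderOf.1 (hgen a) |> Finset.mem_image.1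
      exact ⟨j, hj, rfl⟩
    · rw [hf, ← map_pow, ← map_pow, inv_pow]
  rw [show ∑ a : P, f (Equiv.ofBijective φ hφ (a, ω)) = ∑ a : P, f (a • ω.out) from rfl, hpow]
  exact range_trace_le (τ s) (τ s⁻¹) _ (by rw [← map_mul, mul_inv_cancel, map_one])
    (by rw [← map_mul, inv_mul_cancel, map_one]) hd v

end Cfsg.Agent.CyclicTIModular
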